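import Cfsg.Agent.H66.LD.Three
import Cfsg.Agent.S4696

/-!
# A block of defect one with full inertial index over `⟨u⟩ × T` (helper591)

`u` of prime order `p`, all non-trivial powers of `u` are conjugate, `C = C_G(u) = ⟨u⟩ × T`, and `θ` an irreducible
character of `T` of `p`-defect zero, invariant under `N_G(⟨u⟩)`.  The block `B` induced by `1 × θ` has exactly `p`
members `χ`, and `χ (u t) = a χ * θ t` with `a χ = ± 1` (`p`-regular `t`); for every `χ` the inner product of
`t ↦ χ (u t)` with `θ` is `a χ` (`0` outside of `B`).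
-/

set_option autoImplicit false

namespace Cfsg.Agent.H591.M23.Blk

open Cfsg
open Cfsg.Agent.Blocks.Basic Cfsg.Agent.Blocks.Local
open Cfsg.Agent.Characters.Core
open Cfsg.Agent.H66.LD.Three
open scoped ComplexConjugate

universe v

variable {G : Type v} [Group G]

/-- A linear character of `⟨u⟩` with value `ω` at `u`. -/
theorem exists_linear {p : ℕ} {u : G} (hu : orderOf u = p) {ω : ℂ} (hω : ω ^ p = 1) (hp : p ≠ 0) :
    ∃ μ : Subgroup.zpowers u →* ℂˣ, ((μ ⟨u, Subgroup.mem_zpowers u⟩ : ℂˣ) : ℂ) = ω := by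
  have h0 : ω ≠ 0 := by
    rintro rfl
    rw [zero_pow hp] at hω
    exact zero_ne_one hω
  let g : Subgroup.zpowers u := ⟨u, Subgroup.mem_zpowers u⟩
  have hg : ∀ x, x ∈ Subgroup.zpowers g := by
    rintro ⟨x, hx⟩
    obtain ⟨k, rfl⟩ := Subgroup.mem_zpowers_iff.1 hx
    exact Subgroup.mem_zpowers_iff.2 ⟨k, Subtype.ext (by simp [g])⟩
  have h1 : orderOf (Units.mk0 ω h0) ∣ orderOf g := by
    have h2 : orderOf g = p := by rw [← hu]; exact Subgroup.orderOf_mk u _
    rw [h2]
    refine orderOf_dvd_of_pow_eq_one (Units.ext ?_)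
    rw [Units.val_pow_eq_pow_val, Units.val_mk0, hω, Units.val_one]
  refine ⟨monoidHomOfForallMemZpowers hg h1, ?_⟩
  change ((monoidHomOfForallMemZpowers hg h1 g : ℂˣ) : ℂ) = ω
  rw [monoidHomOfForallMemZpowers_apply_gen, Units.val_mk0]

/-- the sum of the conjugates of a nontrivial linear character of `⟨u⟩` -/
theorem exists_linear_sum [Finite G] {p : ℕ} [hp : Fact p.Prime] {u : G} (hu : orderOf u = p)
    [Fintype (Subgroup.zpowers u)] :
    ∃ μ : Subgroup.zpowers u →* ℂˣ, ∑ x : Subgroup.zpowers u, conj ((μ x : ℂˣ) : ℂ) = 0 := by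
  obtain ⟨ω, hω⟩ : ∃ ω : ℂ, IsPrimitiveRoot ω p := ⟨_, Complex.isPrimitiveRoot_exp p hp.out.ne_zero⟩
  obtain ⟨μ, hμ⟩ := exists_linear hu hω.pow_eq_one hp.out.ne_zero
  refine ⟨μ, ?_⟩
  have h1 : ∑ x : Subgroup.zpowers u, ((μ x : ℂˣ) : ℂ) = 0 := by
    have h2 : ω * ∑ x : Subgroup.zpowers u, ((μ x : ℂˣ) : ℂ) = ∑ x : Subgroup.zpowers u, ((μ x : ℂˣ) : ℂ) := by
      rw [Finset.mul_sum]
      refine Fintype.sum_equiv (Equiv.mulLeft (⟨u, Subgroup.mem_zpowers u⟩ : Subgroup.zpowers u)) _ _ fun x => ?_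
      rw [Equiv.coe_mulLeft, map_mul, Units.val_mul, hμ]
    have h3 : ω ≠ 1 := hω.ne_one hp.out.one_lt
    have h4 : (ω - 1) * ∑ x : Subgroup.zpowers u, ((μ x : ℂˣ) : ℂ) = 0 := by
      rw [sub_mul, h2, one_mul, sub_self]
    exact (mul_eq_zero.1 h4).resolve_left (sub_ne_zero.2 h3)
  rw [← map_sum, h1, map_zero]

section Setup

variable [Finite G] {p : ℕ} [hp : Fact p.Prime] {u : G} {C T : Subgroup G}

/-- all the data -/
structure Hyp (p : ℕ) (u : G) (C T : Subgroup G) (θ : T → ℂ) : Prop where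
  ord : orderOf u = p
  cent : C = Subgroup.centralizer ({u} : Set G)
  le : T ≤ C
  card : Nat.card C = p * Nat.card T
  notMem : u ∉ T
  pows : ∀ k : ℕ, ¬ p ∣ k → ∃ n : G, n * u * n⁻¹ = u ^ k
  norm : ∀ g ∈ Subgroup.normalizer ((Subgroup.zpowers u : Subgroup G) : Set G), ∀ t ∈ T, g * t * g⁻¹ ∈ T
  irr : IsIrrCharacter T θ
  deg : (charDegree θ).factorization p = (Nat.card T).factorization p
  inv : ∀ g ∈ Subgroup.normalizer ((Subgroup.zpowers u : Subgroup G) : Set G), ∀ t t' : T,
    (t' : G) = g * t * g⁻¹ → θ t' = θ t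

theorem Hyp.mem_norm {θ : T → ℂ} (h : Hyp p u C T θ) {n : G} {k : ℕ} (hk : ¬ p ∣ k) (hn : n * u * n⁻¹ = u ^ k) :
    n ∈ Subgroup.normalizer ((Subgroup.zpowers u : Subgroup G) : Set G) := by
  have h1 : Subgroup.map (MulAut.conj n).toMonoidHom (Subgroup.zpowers u) = Subgroup.zpowers u := by
    rw [MonoidHom.map_zpowers]
    have h2 : (MulAut.conj n).toMonoidHom u = u ^ k := by simpa using hn
    rw [h2]
    apply Subgroup.eq_of_le_of_card_ge
    · rw [Subgroup.zpowers_le]
      exact pow_mem (Subgroup.mem_zpowers u) k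
    · rw [Nat.card_zpowers, Nat.card_zpowers, Nat.Coprime.orderOf_pow]
      rw [h.ord]
      exact (Nat.Prime.coprime_iff_not_dvd hp.out).2 hk
  rw [Subgroup.mem_normalizer_iff]
  intro x
  constructor
  · intro hx
    rw [← h1]
    exact ⟨x, hx, by simp⟩
  · intro hx
    rw [← h1] at hx
    obtain ⟨y, hy, hyx⟩ := hx
    have h3 : n * y * n⁻¹ = n * x * n⁻¹ := by simpa using hyx
    have h4 : y = x := by
      have := mul_right_cancel h3
      exact mul_left_cancel this
    rw [← h4]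
    exact hy

/-- The inner product of `t ↦ χ (u t)` with `θ` is an integer. -/
theorem exists_int {θ : T → ℂ} (h : Hyp p u C T θ) [Fintype T] {χ : G → ℂ} (hχ : IsCharacter G χ) :
    ∃ a : ℤ, classInner (fun t : T => χ (u * t)) θ = a := by
  obtain ⟨E, hE⟩ := exists_equiv h.ord h.cent h.le h.card h.notMem
  have : Fintype C := Fintype.ofFinite C
  have : Fintype (Subgroup.zpowers u) := Fintype.ofFinite _
  have hθ := isIrr_isCharacter h.irr
  obtain ⟨μ, hμ⟩ := exists_linear_sum (G := G) h.ord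
  have hf1 : IsCharacter C (θ ∘ ((MonoidHom.snd (Subgroup.zpowers u) T).comp E.symm.toMonoidHom)) :=
    isCharacter_comp _ hθ
  have hf2 : IsCharacter C ((fun x => ((μ x : ℂˣ) : ℂ)) ∘
      ((MonoidHom.fst (Subgroup.zpowers u) T).comp E.symm.toMonoidHom)) :=
    isCharacter_comp _ (Characters.Linear.isCharacter_hom μ)
  have hres : IsCharacter C (χ ∘ C.subtype) := isCharacter_comp C.subtype hχ
  obtain ⟨m0, hm0⟩ := classInner_isNat hres hf1
  obtain ⟨m1, hm1⟩ := classInner_isNat hres (isCharacter_mul hf2 hf1)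
  have hsum : ∀ F : (Subgroup.zpowers u) × T → ℂ, ∑ c : C, F (E.symm c) = ∑ x, ∑ t, F (x, t) := by
    intro F
    rw [← Fintype.sum_prod_type]
    exact Fintype.sum_equiv E.symm.toEquiv _ _ fun c => rfl
  obtain ⟨S, hS⟩ : ∃ S : G → ℂ, ∀ x, S x = ∑ t : T, χ (x * t) * conj (θ t) := ⟨_, fun x => rfl⟩
  -- `S` is constant on the nontrivial elements of `⟨u⟩`
  have hSinv : ∀ x : Subgroup.zpowers u, x ≠ 1 → S x = S u := by
    rintro ⟨x, hx⟩ hx1
    obtain ⟨k, rfl⟩ := mem_powers_iff_mem_zpowers.2 hx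
    have hk : ¬ p ∣ k := by
      rintro ⟨m, rfl⟩
      apply hx1
      apply Subtype.ext
      change u ^ (p * m) = 1
      rw [pow_mul, ← h.ord, pow_orderOf_eq_one, one_pow]
    obtain ⟨n, hn⟩ := h.pows k hk
    have hnN := h.mem_norm hk hn
    change S (u ^ k) = S u
    rw [hS, hS]
    -- the automorphism `t ↦ n t n⁻¹` of `T`
    let f : T → T := fun t => ⟨n * t * n⁻¹, h.norm n hnN t t.2⟩
    have hf : Function.Injective f := by
      intro a b hab
      have h3 : n * (a : G) * n⁻¹ = n * (b : G) * n⁻¹ := congrArg Subtype.val hab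
      exact Subtype.ext (mul_left_cancel (mul_right_cancel h3))
    have hfb : Function.Bijective f := Finite.injective_iff_bijective.1 hf
    symm
    refine Fintype.sum_bijective f hfb _ _ fun t => ?_
    have h4 : (u ^ k * ((f t : T) : G)) = n * (u * t) * n⁻¹ := by
      change u ^ k * (n * (t : G) * n⁻¹) = _
      rw [← hn]
      group
    rw [h4, isCharacter_isClassFunction hχ, h.inv n hnN t (f t) rfl]
  have hA : ∑ c : C, (χ ∘ C.subtype) c *
      conj ((θ ∘ ((MonoidHom.snd (Subgroup.zpowers u) T).comp E.symm.toMonoidHom)) c) =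
      ∑ x : Subgroup.zpowers u, S x := by
    simp only [hS]
    rw [← hsum (fun q => χ ((q.1 : G) * q.2) * conj (θ q.2))]
    refine Finset.sum_congr rfl fun c _ => ?_
    have h1 : (c : G) = ((E.symm c).1 : G) * (E.symm c).2 := by
      rw [← hE, Prod.mk.eta, MulEquiv.apply_symm_apply]
    change χ (c : G) * conj (θ (E.symm c).2) = _
    rw [← h1]
  have hB : ∑ c : C, (χ ∘ C.subtype) c *
      conj ((((fun x => ((μ x : ℂˣ) : ℂ)) ∘
      ((MonoidHom.fst (Subgroup.zpowers u) T).comp E.symm.toMonoidHom)) *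
        (θ ∘ ((MonoidHom.snd (Subgroup.zpowers u) T).comp E.symm.toMonoidHom))) c) =
      ∑ x : Subgroup.zpowers u, conj ((μ x : ℂˣ) : ℂ) * S x := by
    simp only [hS, Finset.mul_sum]
    rw [← hsum (fun q => conj ((μ q.1 : ℂˣ) : ℂ) * (χ ((q.1 : G) * q.2) * conj (θ q.2)))]
    refine Finset.sum_congr rfl fun c _ => ?_
    have h1 : (c : G) = ((E.symm c).1 : G) * (E.symm c).2 := by
      rw [← hE, Prod.mk.eta, MulEquiv.apply_symm_apply]
    change χ (c : G) * conj (((μ (E.symm c).1 : ℂˣ) : ℂ) * θ (E.symm c).2) = _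
    rw [← h1, map_mul]
    ring
  classical
  have hcardZ : Fintype.card (Subgroup.zpowers u) = p := by
    rw [← Nat.card_eq_fintype_card, Nat.card_zpowers, h.ord]
  have hA2 : ∑ x : Subgroup.zpowers u, S x = S 1 + ((p : ℂ) - 1) * S u := by
    rw [← Finset.add_sum_erase Finset.univ (fun x : Subgroup.zpowers u => S x) (Finset.mem_univ 1)]
    rw [Finset.sum_congr rfl (g := fun _ => S u) (fun x hx => hSinv x (Finset.ne_of_mem_erase hx)),
      Finset.sum_const, Finset.card_erase_of_mem (Finset.mem_univ _), Finset.card_univ, hcardZ, nsmul_eq_mul,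
      Nat.cast_sub hp.out.one_lt.le, Nat.cast_one, OneMemClass.coe_one]
  have hB2 : ∑ x : Subgroup.zpowers u, conj ((μ x : ℂˣ) : ℂ) * S x = S 1 - S u := by
    rw [← Finset.add_sum_erase Finset.univ (fun x : Subgroup.zpowers u => conj ((μ x : ℂˣ) : ℂ) * S x)
      (Finset.mem_univ 1)]
    rw [← Finset.add_sum_erase Finset.univ (fun x : Subgroup.zpowers u => conj ((μ x : ℂˣ) : ℂ))
      (Finset.mem_univ 1)] at hμ
    rw [Finset.sum_congr rfl (g := fun x : Subgroup.zpowers u => conj ((μ x : ℂˣ) : ℂ) * S u)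
      (fun x hx => by rw [hSinv x (Finset.ne_of_mem_erase hx)]), ← Finset.sum_mul]
    simp only [map_one, Units.val_one, one_mul, OneMemClass.coe_one] at hμ ⊢
    linear_combination (S u) * hμ
  rw [Characters.Core.classInner_def, hA, hA2] at hm0
  rw [Characters.Core.classInner_def, hB, hB2] at hm1
  have hcardC : (Nat.card C : ℂ) = p * Nat.card T := by
    rw [h.card]
    push_cast
    ring
  have hT0 : (Nat.card T : ℂ) ≠ 0 := by exact_mod_cast Nat.card_pos.ne'
  have hp0 : (p : ℂ) ≠ 0 := by exact_mod_cast hp.out.ne_zero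
  refine ⟨(m0 : ℤ) - m1, ?_⟩
  rw [Characters.Core.classInner_def]
  change (Nat.card T : ℂ)⁻¹ * ∑ t : T, χ (u * t) * conj (θ t) = _
  rw [← hS]
  push_cast
  rw [← hm0, ← hm1, hcardC]
  field_simp
  ring

/-- `θ` vanishes at the `p`-singular elements. -/
theorem Hyp.zero {M : Ideal AlgInt} (hM : IsPModular p M) {θ : T → ℂ} (h : Hyp p u C T θ) {t : T}
    (ht : p ∣ orderOf t) : θ t = 0 :=
  eq_zero_of_dvd hM ⟨θ, h.irr⟩ h.deg ht

omit [Finite G] hp in
theorem Hyp.comm {θ : T → ℂ} (h : Hyp p u C T θ) (t : T) : Commute u (t : G) := by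
  have h1 : (t : G) ∈ Subgroup.centralizer ({u} : Set G) := by rw [← h.cent]; exact h.le t.2
  exact (Subgroup.mem_centralizer_singleton_iff.1 h1).symm

theorem Hyp.ppart {θ : T → ℂ} (h : Hyp p u C T θ) {t : T} (ht : ¬ p ∣ orderOf t) :
    IsPPart p (u * (t : G)) u :=
  Cfsg.Agent.Blocks.PPart.isPPart_mul (h.comm t) ⟨1, by rw [h.ord, pow_one]⟩
    (by rwa [Subgroup.orderOf_coe])

/-- Parseval: the squares of the inner products sum up to `p`. -/
theorem total {M : Ideal AlgInt} (hM : IsPModular p M) {θ : T → ℂ} (h : Hyp p u C T θ) [Fintype T]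
    [Fintype (IrrCharacter G)] :
    ∑ χ : IrrCharacter G, classInner (fun t : T => (χ : G → ℂ) (u * t)) θ *
      conj (classInner (fun t : T => (χ : G → ℂ) (u * t)) θ) = p := by
  classical
  obtain ⟨E, hE⟩ := exists_equiv h.ord h.cent h.le h.card h.notMem
  have : Fintype G := Fintype.ofFinite G
  have : Fintype C := Fintype.ofFinite C
  obtain ⟨e, he⟩ : ∃ e : G → ℂ, ∀ x, e x = ∑ t : T, if x = u * t then θ t else 0 := ⟨_, fun x => rfl⟩
  have hes : ∀ g : G → ℂ, ∑ x, e x * g x = ∑ t : T, θ t * g (u * t) := by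
    intro g
    simp only [he, Finset.sum_mul, ite_mul, zero_mul]
    rw [Finset.sum_comm]
    refine Finset.sum_congr rfl fun t _ => ?_
    rw [Finset.sum_ite_eq' Finset.univ (u * (t : G)) (fun x => θ t * g x), if_pos (Finset.mem_univ _)]
  have heu : ∀ t : T, e (u * t) = θ t := by
    intro t
    rw [he, Finset.sum_eq_single t]
    · rw [if_pos rfl]
    · intro t' _ ht'
      rw [if_neg]
      intro h1
      exact ht' (Subtype.ext (mul_left_cancel h1)).symm
    · intro h1
      exact absurd (Finset.mem_univ t) h1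
  have he0 : ∀ x : G, (∀ t : T, x = u * t → θ t = 0) → e x = 0 := by
    intro x hx
    rw [he]
    refine Finset.sum_eq_zero fun t _ => ?_
    by_cases h1 : x = u * t
    · rw [if_pos h1, hx t h1]
    · rw [if_neg h1]
  obtain ⟨F, hF⟩ : ∃ F : G → ℂ, ∀ g, F g = ∑ x : G, e (x * g * x⁻¹) := ⟨_, fun x => rfl⟩
  have hFc : IsClassFunction G F := by
    intro g y
    rw [hF, hF]
    refine Fintype.sum_equiv (Equiv.mulRight y) _ _ fun x => ?_
    rw [Equiv.coe_mulRight]
    congr 1
    group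
  have hG0 : (Nat.card G : ℂ) ≠ 0 := by exact_mod_cast Nat.card_pos.ne'
  have hT0 : (Nat.card T : ℂ) ≠ 0 := by exact_mod_cast Nat.card_pos.ne'
  have key : ∀ χ : G → ℂ, IsClassFunction G χ → classInner F χ = ∑ t : T, θ t * conj (χ (u * t)) := by
    intro χ hχ
    rw [Characters.Core.classInner_def]
    have h1 : ∑ g : G, F g * conj (χ g) = ∑ x : G, ∑ g : G, e (x * g * x⁻¹) * conj (χ g) := by
      rw [Finset.sum_comm]
      refine Finset.sum_congr rfl fun g _ => ?_
      rw [hF, Finset.sum_mul]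
    have h2 : ∀ x : G, ∑ g : G, e (x * g * x⁻¹) * conj (χ g) = ∑ t : T, θ t * conj (χ (u * t)) := by
      intro x
      rw [← hes (fun g => conj (χ g))]
      refine Fintype.sum_equiv (MulAut.conj x).toEquiv _ _ fun g => ?_
      have h3 : (MulAut.conj x).toEquiv g = x * g * x⁻¹ := by simp
      rw [h3, hχ]
    rw [h1, Finset.sum_congr rfl fun x _ => h2 x, Finset.sum_const, Finset.card_univ, nsmul_eq_mul,
      ← Nat.card_eq_fintype_card, ← mul_assoc, inv_mul_cancel₀ hG0, one_mul]
  -- the values of `F`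
  have hFu : ∀ t : T, ¬ p ∣ orderOf t → F (u * t) = (p * Nat.card T : ℂ) * θ t := by
    intro t ht
    have hin : ∀ c : C, e ((c : G) * (u * t) * (c : G)⁻¹) = θ t := by
      intro c
      obtain ⟨⟨x, s⟩, rfl⟩ := E.surjective c
      rw [hE]
      have hxu : Commute (x : G) u := by
        obtain ⟨k, hk⟩ := Subgroup.mem_zpowers_iff.1 x.2
        rw [← hk]
        exact (Commute.refl u).zpow_left k
      have hxt : Commute (x : G) ((s * t * s⁻¹ : T) : G) := by
        obtain ⟨k, hk⟩ := Subgroup.mem_zpowers_iff.1 x.2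
        rw [← hk]
        exact (h.comm _).zpow_left k
      have hsu : Commute (s : G) u := (h.comm s).symm
      have h1 : (x : G) * s * (u * t) * ((x : G) * s)⁻¹ = u * ((s * t * s⁻¹ : T) : G) := by
        calc (x : G) * s * (u * t) * ((x : G) * s)⁻¹ = x * (s * u) * t * (s : G)⁻¹ * (x : G)⁻¹ := by group
          _ = x * (u * s) * t * (s : G)⁻¹ * (x : G)⁻¹ := by rw [hsu.eq]
          _ = (x * u) * (s * t * (s : G)⁻¹) * (x : G)⁻¹ := by group
          _ = (u * x) * (s * t * (s : G)⁻¹) * (x : G)⁻¹ := by rw [hxu.eq]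
          _ = u * (x * ((s * t * s⁻¹ : T) : G)) * (x : G)⁻¹ := by
                push_cast
                group
          _ = u * (((s * t * s⁻¹ : T) : G) * x) * (x : G)⁻¹ := by rw [hxt.eq]
          _ = u * ((s * t * s⁻¹ : T) : G) := by group
      rw [h1, heu]
      exact isIrr_isClassFunction h.irr t s
    have hout : ∀ x : G, x ∉ C → e (x * (u * t) * x⁻¹) = 0 := by
      intro x hx
      apply he0
      intro t' ht'
      by_contra h0
      have hreg : ¬ p ∣ orderOf t' := fun h1 => h0 (h.zero hM h1)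
      apply hx
      have h1 := h.ppart ht
      have h2 := Cfsg.Agent.Blocks.PPart.isPPart_conj h1 x
      rw [ht'] at h2
      have h3 := Cfsg.Agent.Blocks.PPart.isPPart_unique h2 (h.ppart hreg)
      rw [h.cent, Subgroup.mem_centralizer_singleton_iff]
      exact mul_inv_eq_iff_eq_mul.1 h3
    rw [hF]
    have h4 : ∑ x : G, e (x * (u * t) * x⁻¹) = ∑ c : C, θ t := by
      symm
      refine Fintype.sum_of_injective (Subtype.val : C → G) Subtype.val_injective _ _ ?_ ?_
      · intro x hx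
        exact hout x fun hxC => hx ⟨⟨x, hxC⟩, rfl⟩
      · intro c
        exact (hin c).symm
    rw [h4, Finset.sum_const, Finset.card_univ, nsmul_eq_mul, ← Nat.card_eq_fintype_card, h.card]
    push_cast
    ring
  have hnorm : classInner F F = (p : ℂ) * (Nat.card T * Nat.card T) := by
    rw [key F hFc]
    have h1 : ∀ t : T, θ t * conj (F (u * t)) = (p * Nat.card T : ℂ) * (θ t * conj (θ t)) := by
      intro t
      by_cases ht : p ∣ orderOf t
      · rw [h.zero hM ht]
        simp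
      · rw [hFu t ht, map_mul, map_mul, Complex.conj_natCast, Complex.conj_natCast]
        ring
    rw [Finset.sum_congr rfl fun t _ => h1 t, ← Finset.mul_sum]
    have h2 := classInner_irr_self h.irr
    rw [Characters.Core.classInner_def] at h2
    have h3 : ∑ t : T, θ t * conj (θ t) = Nat.card T := by
      rw [inv_mul_eq_iff_eq_mul₀ hT0, mul_one] at h2
      exact h2
    rw [h3]
    ring
  have hpars := classInner_eq_sum hFc hFc
  rw [hnorm] at hpars
  have hc : ∀ χ : IrrCharacter G, classInner F (χ : G → ℂ) =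
      Nat.card T * conj (classInner (fun t : T => (χ : G → ℂ) (u * t)) θ) := by
    intro χ
    rw [key _ (isIrr_isClassFunction χ.2), Characters.Core.classInner_def, map_mul, map_inv₀, Complex.conj_natCast, map_sum,
      ← mul_assoc, mul_inv_cancel₀ hT0, one_mul]
    refine Finset.sum_congr rfl fun t _ => ?_
    rw [map_mul, Complex.conj_conj]
    ring
  have h5 : ∑ χ : IrrCharacter G, classInner F (χ : G → ℂ) * conj (classInner F (χ : G → ℂ)) =
      (Nat.card T * Nat.card T : ℂ) * ∑ χ : IrrCharacter G, classInner (fun t : T => (χ : G → ℂ) (u * t)) θ *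
      conj (classInner (fun t : T => (χ : G → ℂ) (u * t)) θ) := by
    rw [Finset.mul_sum]
    refine Finset.sum_congr rfl fun χ _ => ?_
    rw [hc, map_mul, Complex.conj_natCast, Complex.conj_conj]
    ring
  rw [h5] at hpars
  have h6 : (Nat.card T * Nat.card T : ℂ) ≠ 0 := mul_ne_zero hT0 hT0
  apply mul_left_cancel₀ h6
  rw [← hpars]
  ring

theorem cn_eq : Subgroup.centralizer ((Subgroup.zpowers u : Subgroup G) : Set G) =
    Subgroup.centralizer ({u} : Set G) := by
  rw [Subgroup.zpowers_eq_closure, Subgroup.centralizer_closure]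

/-- The inertial index is `p - 1`. -/
theorem relIndex_eq {θ : T → ℂ} (h : Hyp p u C T θ) :
    (Subgroup.centralizer ((Subgroup.zpowers u : Subgroup G) : Set G)).relIndex
      (Subgroup.normalizer ((Subgroup.zpowers u : Subgroup G) : Set G)) = p - 1 := by
  obtain ⟨N, hN⟩ : ∃ N : Subgroup G, N = Subgroup.normalizer ((Subgroup.zpowers u : Subgroup G) : Set G) :=
    ⟨_, rfl⟩
  have huN : u ∈ N := by
    rw [hN]
    exact Subgroup.le_normalizer (Subgroup.mem_zpowers u)
  have hconjN : ∀ n ∈ N, n * u * n⁻¹ ∈ Subgroup.zpowers u := by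
    intro n hn
    rw [hN] at hn
    exact (Subgroup.mem_normalizer_iff.1 hn u).1 (Subgroup.mem_zpowers u)
  rw [← hN, Subgroup.relIndex, cn_eq]
  have h1 : (Subgroup.centralizer ({u} : Set G)).subgroupOf N = Subgroup.centralizer ({(⟨u, huN⟩ : N)} : Set N) := by
    ext x
    rw [Subgroup.mem_subgroupOf, Subgroup.mem_centralizer_singleton_iff, Subgroup.mem_centralizer_singleton_iff,
      ← Subtype.coe_inj]
    rfl
  rw [h1, Cfsg.Agent.Characters.CentralCharacter.index_centralizer_eq_card]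
  have hu1 : u ≠ 1 := by
    intro h2
    have h3 := h.ord
    rw [h2, orderOf_one] at h3
    exact hp.out.one_lt.ne h3
  let f : {x : N // IsConj (⟨u, huN⟩ : N) x} → {y : Subgroup.zpowers u // y ≠ 1} := fun x =>
    ⟨⟨x.1, by
      obtain ⟨n, hn⟩ := isConj_iff.1 x.2
      rw [← hn]
      exact hconjN n n.2⟩, by
      intro h2
      obtain ⟨n, hn⟩ := isConj_iff.1 x.2
      have h3 : (x.1 : G) = 1 := congrArg Subtype.val h2
      rw [← hn] at h3
      have h4 : (n : G) * u * (n : G)⁻¹ = 1 := h3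
      rw [conj_eq_one_iff] at h4
      exact hu1 h4⟩
  have hf : Function.Bijective f := by
    constructor
    · intro x y hxy
      apply Subtype.ext
      apply Subtype.ext
      exact congrArg (fun z => ((z.1 : Subgroup.zpowers u) : G)) hxy
    · rintro ⟨⟨y, hy⟩, hy1⟩
      obtain ⟨k, rfl⟩ := mem_powers_iff_mem_zpowers.2 hy
      have hk : ¬ p ∣ k := by
        rintro ⟨m, rfl⟩
        apply hy1
        apply Subtype.ext
        change u ^ (p * m) = 1
        rw [pow_mul, ← h.ord, pow_orderOf_eq_one, one_pow]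
      obtain ⟨n, hn⟩ := h.pows k hk
      have hnN := h.mem_norm hk hn
      rw [← hN] at hnN
      refine ⟨⟨⟨u ^ k, pow_mem huN k⟩, isConj_iff.2 ⟨⟨n, hnN⟩, Subtype.ext hn⟩⟩, ?_⟩
      rfl
  rw [Nat.card_congr (Equiv.ofBijective f hf)]
  classical
  have : Fintype (Subgroup.zpowers u) := Fintype.ofFinite _
  rw [Nat.card_eq_fintype_card, Fintype.card_subtype_compl, Fintype.card_subtype_eq,
    ← Nat.card_eq_fintype_card, Nat.card_zpowers, h.ord]

/-- The number of members of the block is `p`. -/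
theorem card_block {M : Ideal AlgInt} (hM : IsPModular p M) {θ : T → ℂ} (h : Hyp p u C T θ)
    (θ' : IrrCharacter C)
    (hconj : ∀ n ∈ Subgroup.normalizer ((Subgroup.zpowers u : Subgroup G) : Set G), ∀ c c' : C,
      (c' : G) = n * (c : G) * n⁻¹ → (θ' : C → ℂ) c' = (θ' : C → ℂ) c)
    {B : Set (IrrCharacter G)} (hB : IsPBlock M B) (hdef : IsDefectGroup p M B (Subgroup.zpowers u))
    (hind : IsInducedBlock M C (blockOf M (θ' : C → ℂ)) B) : Nat.card B = p := by
  have hrel := relIndex_eq h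
  have hC := h.cent
  rw [← cn_eq] at hC
  subst hC
  obtain ⟨-, -, X, Y, hXY, hdis, hX, hY, -⟩ := Cfsg.Agent.S4696.result p M hM (Subgroup.zpowers u)
    inferInstance 1 le_rfl (by rw [Nat.card_zpowers, h.ord, pow_one]) B hB hdef _ hind
    (Subgroup.normalizer ((Subgroup.zpowers u : Subgroup G) : Set G)) (by
      intro g
      refine ⟨fun hg => ⟨hg, ?_⟩, fun hg => hg.1⟩
      intro ξ hξ ξ' hξ'
      let e : ↥(Subgroup.centralizer ((Subgroup.zpowers u : Subgroup G) : Set G)) ≃*
          ↥(Subgroup.centralizer ((Subgroup.zpowers u : Subgroup G) : Set G)) :=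
        Cfsg.Agent.Blocks.ExtendedFMT.conjL _ g
          (fun x hx => Cfsg.Agent.H593.D1Local.conj_mem_centralizer hg hx)
          (fun x hx => by
            have := Cfsg.Agent.H593.D1Local.conj_mem_centralizer (inv_mem hg) hx
            rwa [inv_inv] at this)
      have h1 : Cfsg.Agent.Blocks.ExtendedFMT.compIrr e ξ' = ξ := by
        apply Subtype.ext
        funext x
        rw [Cfsg.Agent.Blocks.ExtendedFMT.compIrr_apply]
        exact hξ' x (e x) rfl
      have h2 : Cfsg.Agent.Blocks.ExtendedFMT.compIrr e θ' = θ' := by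
        apply Subtype.ext
        funext x
        rw [Cfsg.Agent.Blocks.ExtendedFMT.compIrr_apply]
        exact hconj g hg x (e x) rfl
      have h3 := Cfsg.Agent.Blocks.ExtendedFMT.sameBlock_compIrr (M := M) e.symm (θ := θ') (ψ := ξ) hξ
      rw [← h1, Cfsg.Agent.Blocks.ExtendedFMT.compIrr_symm_compIrr] at h3
      have h4 : Cfsg.Agent.Blocks.ExtendedFMT.compIrr e.symm θ' = θ' := by
        conv_lhs => rw [← h2]
        exact Cfsg.Agent.Blocks.ExtendedFMT.compIrr_symm_compIrr e θ'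
      rw [h4] at h3
      exact h3) (p - 1) hrel
  have : Finite (IrrCharacter G) := finite_irr
  rw [hXY, Nat.card_coe_set_eq, Set.ncard_union_eq hdis (Set.toFinite X) (Set.toFinite Y), ← Nat.card_coe_set_eq,
    ← Nat.card_coe_set_eq, hX, hY, pow_one, Nat.div_self (by have := hp.out.two_le; omega)]
  have := hp.out.two_le
  omega

/-- The induced central character as a double sum. -/
theorem induced_eq {θ : T → ℂ} (h : Hyp p u C T θ) (θ' : IrrCharacter C)
    (hθ' : ∀ (c : C) (x : G) (t : T), x ∈ Subgroup.zpowers u → (c : G) = x * t → (θ' : C → ℂ) c = θ t)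
    [Fintype (Subgroup.zpowers u)] [Fintype T] [DecidableRel (fun a b : G => IsConj a b)] (g : G) :
    inducedCentralChar C (θ' : C → ℂ) g =
      ∑ x : Subgroup.zpowers u, ∑ t : T, if IsConj g ((x : G) * t) then θ t / θ 1 else 0 := by
  classical
  obtain ⟨E, hE⟩ := exists_equiv h.ord h.cent h.le h.card h.notMem
  have : Fintype C := Fintype.ofFinite C
  have hsum : ∀ F : (Subgroup.zpowers u) × T → ℂ, ∑ c : C, F (E.symm c) = ∑ x, ∑ t, F (x, t) := by
    intro F
    rw [← Fintype.sum_prod_type]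
    exact Fintype.sum_equiv E.symm.toEquiv _ _ fun c => rfl
  have hdec : ∀ c : C, (c : G) = ((E.symm c).1 : G) * (E.symm c).2 := by
    intro c
    rw [← hE, Prod.mk.eta, MulEquiv.apply_symm_apply]
  have hθ1 : (θ' : C → ℂ) 1 = θ 1 := hθ' 1 1 1 (one_mem _) (by simp)
  unfold inducedCentralChar
  rw [finsum_mem_eq_finite_toFinset_sum _ (Set.toFinite {c : C | IsConj g (c : G)})]
  rw [← hsum (fun q => if IsConj g ((q.1 : G) * q.2) then θ q.2 / θ 1 else 0)]
  have h1 : ∑ c : C, (fun q : (Subgroup.zpowers u) × T =>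
      if IsConj g ((q.1 : G) * q.2) then θ q.2 / θ 1 else 0) (E.symm c) =
      ∑ c : C, if IsConj g (c : G) then (θ' : C → ℂ) c / (θ' : C → ℂ) 1 else 0 := by
    refine Finset.sum_congr rfl fun c _ => ?_
    rw [hθ1, hθ' c (E.symm c).1 (E.symm c).2 (E.symm c).1.2 (hdec c)]
    simp only [← hdec]
  rw [h1, ← Finset.sum_filter]
  refine Finset.sum_congr ?_ fun c _ => rfl
  ext c
  simp

/-- at a `p`-regular element -/
theorem induced_reg {M : Ideal AlgInt} (hM : IsPModular p M) {θ : T → ℂ} (h : Hyp p u C T θ) (θ' : IrrCharacter C)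
    (hθ' : ∀ (c : C) (x : G) (t : T), x ∈ Subgroup.zpowers u → (c : G) = x * t → (θ' : C → ℂ) c = θ t)
    {g : G} (hg : ¬ p ∣ orderOf g) :
    inducedCentralChar C (θ' : C → ℂ) g = ∑ᶠ t ∈ {t : T | IsConj g (t : G)}, θ t / θ 1 := by
  classical
  have : Fintype (Subgroup.zpowers u) := Fintype.ofFinite _
  have : Fintype T := Fintype.ofFinite T
  rw [induced_eq h θ' hθ' g, finsum_mem_eq_finite_toFinset_sum _ (Set.toFinite {t : T | IsConj g (t : G)}),
    Finset.sum_eq_single (1 : Subgroup.zpowers u)]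
  · rw [← Finset.sum_filter]
    refine Finset.sum_congr ?_ fun t _ => rfl
    ext t
    simp
  · intro x _ hx
    refine Finset.sum_eq_zero fun t _ => ?_
    rw [ite_eq_right_iff]
    intro hconj
    by_cases ht : p ∣ orderOf t
    · rw [h.zero hM ht, zero_div]
    · exfalso
      obtain ⟨k, hk⟩ := mem_powers_iff_mem_zpowers.2 x.2
      have hk : u ^ k = x := hk
      have hxt : Commute (x : G) (t : G) := by
        rw [← hk]
        exact (h.comm t).pow_left k
      have h1 : IsPPart p ((x : G) * t) x := by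
        refine Cfsg.Agent.Blocks.PPart.isPPart_mul hxt ?_ (by rwa [Subgroup.orderOf_coe])
        have h2 : orderOf (x : G) ∣ p := by
          rw [← h.ord, ← hk]
          exact orderOf_pow_dvd k
        rcases (Nat.dvd_prime hp.out).1 h2 with h3 | h3
        · exact ⟨0, by rw [h3, pow_zero]⟩
        · exact ⟨1, by rw [h3, pow_one]⟩
      obtain ⟨c, hc⟩ := isConj_iff.1 hconj
      have h2 := Cfsg.Agent.Blocks.PPart.isPPart_conj (Cfsg.Agent.Blocks.PPart.isPPart_of_not_dvd hg) c
      rw [hc] at h2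
      have h3 := Cfsg.Agent.Blocks.PPart.isPPart_unique h1 h2
      apply hx
      apply Subtype.ext
      rw [h3]
      simp
  · intro h1
    exact absurd (Finset.mem_univ _) h1

/-- at `u` -/
theorem induced_u {M : Ideal AlgInt} (hM : IsPModular p M) {θ : T → ℂ} (h : Hyp p u C T θ) (θ' : IrrCharacter C)
    (hθ' : ∀ (c : C) (x : G) (t : T), x ∈ Subgroup.zpowers u → (c : G) = x * t → (θ' : C → ℂ) c = θ t) :
    inducedCentralChar C (θ' : C → ℂ) u = (p : ℂ) - 1 := by
  classical
  have : Fintype (Subgroup.zpowers u) := Fintype.ofFinite _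
  have : Fintype T := Fintype.ofFinite T
  have hθ0 : θ 1 ≠ 0 := isIrr_apply_one_ne_zero h.irr
  have hu1 : u ≠ 1 := by
    intro h2
    have h3 := h.ord
    rw [h2, orderOf_one] at h3
    exact hp.out.one_lt.ne h3
  rw [induced_eq h θ' hθ' u]
  have h1 : ∀ x : Subgroup.zpowers u, ∑ t : T, (if IsConj u ((x : G) * t) then θ t / θ 1 else 0) =
      if x = 1 then 0 else 1 := by
    intro x
    obtain ⟨k, hk⟩ := mem_powers_iff_mem_zpowers.2 x.2
    have hk : u ^ k = x := hk
    have hxp : ∃ k : ℕ, orderOf (x : G) = p ^ k := by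
      have h2 : orderOf (x : G) ∣ p := by
        rw [← h.ord, ← hk]
        exact orderOf_pow_dvd k
      rcases (Nat.dvd_prime hp.out).1 h2 with h3 | h3
      · exact ⟨0, by rw [h3, pow_zero]⟩
      · exact ⟨1, by rw [h3, pow_one]⟩
    rw [Finset.sum_eq_single (1 : T)]
    · by_cases hx : x = 1
      · rw [if_pos hx, if_neg]
        rw [hx]
        intro h2
        rw [OneMemClass.coe_one, OneMemClass.coe_one, mul_one, isConj_one_left] at h2
        exact hu1 h2
      · rw [if_neg hx, if_pos, div_self hθ0]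
        rw [OneMemClass.coe_one, mul_one]
        have hk1 : ¬ p ∣ k := by
          rintro ⟨m, rfl⟩
          apply hx
          apply Subtype.ext
          rw [← hk, pow_mul, ← h.ord, pow_orderOf_eq_one, one_pow]
          rfl
        obtain ⟨n, hn⟩ := h.pows k hk1
        rw [← hk]
        exact isConj_iff.2 ⟨n, hn⟩
    · intro t _ ht1
      rw [ite_eq_right_iff]
      intro hconj
      by_cases ht : p ∣ orderOf t
      · rw [h.zero hM ht, zero_div]
      · exfalso
        have hxt : Commute (x : G) (t : G) := by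
          rw [← hk]
          exact (h.comm t).pow_left k
        have h2 : IsPPart p ((x : G) * t) x :=
          Cfsg.Agent.Blocks.PPart.isPPart_mul hxt hxp (by rwa [Subgroup.orderOf_coe])
        obtain ⟨c, hc⟩ := isConj_iff.1 hconj
        have h3 : IsPPart p u u := by
          have h4 := Cfsg.Agent.Blocks.PPart.isPPart_mul (Commute.one_right u) ⟨1, by rw [h.ord, pow_one]⟩
            (y := 1) (by rw [orderOf_one]; exact fun h5 => hp.out.one_lt.ne' (Nat.dvd_one.1 h5))
          rwa [mul_one] at h4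
        have h4 := Cfsg.Agent.Blocks.PPart.isPPart_conj h3 c
        rw [hc] at h4
        have h5 := Cfsg.Agent.Blocks.PPart.isPPart_unique h4 h2
        apply ht1
        apply Subtype.ext
        have h6 : (x : G) * (t : G) = x * 1 := by rw [mul_one]; exact h5
        exact mul_left_cancel h6
    · intro h2
      exact absurd (Finset.mem_univ _) h2
  rw [Finset.sum_congr rfl fun x _ => h1 x]
  have h2 : ∑ x : Subgroup.zpowers u, (if x = 1 then (0 : ℂ) else 1) =
      ∑ x : Subgroup.zpowers u, (1 - if x = 1 then (1 : ℂ) else 0) := by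
    refine Finset.sum_congr rfl fun x _ => ?_
    split_ifs <;> norm_num
  rw [h2, Finset.sum_sub_distrib, Finset.sum_const, Finset.card_univ, nsmul_eq_mul, mul_one,
    Finset.sum_ite_eq' Finset.univ (1 : Subgroup.zpowers u) (fun _ => (1 : ℂ)), if_pos (Finset.mem_univ _),
    ← Nat.card_eq_fintype_card, Nat.card_zpowers, h.ord]

/-- **The block over `⟨u⟩ × θ`.** -/
theorem exists_blk {M : Ideal AlgInt} (hM : IsPModular p M) {θ : T → ℂ} (h : Hyp p u C T θ) [Fintype T] :
    ∃ (B : Set (IrrCharacter G)) (θ' : IrrCharacter C) (a : IrrCharacter G → ℤ),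
      (∀ (c : C) (x : G) (t : T), x ∈ Subgroup.zpowers u → (c : G) = x * t → (θ' : C → ℂ) c = θ t) ∧
      IsPBlock M B ∧ IsDefectGroup p M B (Subgroup.zpowers u) ∧
      IsInducedBlock M C (blockOf M (θ' : C → ℂ)) B ∧ Nat.card B = p ∧
      (∀ χ ∈ B, a χ = 1 ∨ a χ = -1) ∧ (∀ χ ∉ B, a χ = 0) ∧
      (∀ χ : IrrCharacter G, classInner (fun t : T => (χ : G → ℂ) (u * t)) θ = a χ) ∧
      (∀ χ ∈ B, ∀ t : T, ¬ p ∣ orderOf t → (χ : G → ℂ) (u * t) = a χ * θ t) ∧
      (∀ x : G, ¬ p ∣ orderOf x → ∑ᶠ χ ∈ B, (a χ : ℂ) * (χ : G → ℂ) x = 0) ∧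
      (∀ χ ∈ B, ∀ g : G, ¬ p ∣ orderOf g →
        MemLocalIdeal M (∑ᶠ t ∈ {t : T | IsConj g (t : G)}, θ t / θ 1 - centralChar (χ : G → ℂ) g)) ∧
      (∀ χ ∈ B, MemLocalIdeal M ((p : ℂ) - 1 - centralChar (χ : G → ℂ) u)) ∧
      (∀ χ ∈ B, p * Nat.card T * charDegree (χ : G → ℂ) ∣ Nat.card G * charDegree θ) := by
  classical
  have hMp : M.IsPrime := isPrime_of_isPModular hM
  obtain ⟨E, hE⟩ := exists_equiv h.ord h.cent h.le h.card h.notMem
  obtain ⟨θ', hθ'⟩ := exists_ext E hE ⟨θ, h.irr⟩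
  have hdec : ∀ c : C, ∃ x ∈ Subgroup.zpowers u, ∃ t : T, (c : G) = x * t := by
    intro c
    refine ⟨(E.symm c).1, (E.symm c).1.2, (E.symm c).2, ?_⟩
    rw [← hE, Prod.mk.eta, MulEquiv.apply_symm_apply]
  have hθ1 : (θ' : C → ℂ) 1 = θ 1 := hθ' 1 1 1 (one_mem _) (by simp)
  have hker : ∀ y : C, (y : G) ∈ Subgroup.zpowers u → (θ' : C → ℂ) y = (θ' : C → ℂ) 1 := by
    intro y hy
    rw [hθ1]
    exact hθ' y y 1 hy (by simp)
  have hcd : charDegree (θ' : C → ℂ) = charDegree θ := by
    rw [Blocks.Basic.charDegree_def, Blocks.Basic.charDegree_def, hθ1]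
  have hdeg : (Nat.card C).factorization p ≤ (charDegree (θ' : C → ℂ)).factorization p + 1 := by
    rw [hcd, h.deg, h.card, Nat.factorization_mul hp.out.ne_zero Nat.card_pos.ne', Finsupp.add_apply,
      hp.out.factorization_self, add_comm]
  have hconj : ∀ g ∈ Subgroup.normalizer ((Subgroup.zpowers u : Subgroup G) : Set G), ∀ c c' : C,
      (c' : G) = g * (c : G) * g⁻¹ → (θ' : C → ℂ) c' = (θ' : C → ℂ) c := by
    intro g hg c c' hcc
    obtain ⟨x, hx, t, hxt⟩ := hdec c
    have h1 : g * x * g⁻¹ ∈ Subgroup.zpowers u := (Subgroup.mem_normalizer_iff.1 hg x).1 hx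
    rw [hθ' c x t hx hxt, hθ' c' (g * x * g⁻¹) ⟨g * t * g⁻¹, h.norm g hg t t.2⟩ h1
      (by rw [hcc, hxt]; group)]
    exact h.inv g hg t _ rfl
  obtain ⟨B, hBb, hdef, hind, hgram⟩ := exists_block hM h.ord h.cent θ' hker hdeg hconj
  have hcardB := card_block hM h θ' hconj hBb hdef hind
  have hfin : Finite (IrrCharacter G) := finite_irr
  have hft := Fintype.ofFinite (IrrCharacter G)
  -- the sum formula for elements of `T`
  have hsum : ∀ y y' : T, ¬ p ∣ orderOf y → ¬ p ∣ orderOf y' →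
      ∑ χ : IrrCharacter G with χ ∈ B, (χ : G → ℂ) (u * y) * conj ((χ : G → ℂ) (u * y')) =
        p * (θ y * conj (θ y')) := by
    intro y y' hy hy'
    have o : ∀ w : T, orderOf (⟨w, h.le w.2⟩ : C) = orderOf w := by
      intro w
      rw [Subgroup.orderOf_mk, Subgroup.orderOf_coe]
    have h1 := hgram ⟨y, h.le y.2⟩ ⟨y', h.le y'.2⟩ (by rw [o]; exact hy) (by rw [o]; exact hy')
    rw [hθ' ⟨y, h.le y.2⟩ 1 y (one_mem _) (by simp), hθ' ⟨y', h.le y'.2⟩ 1 y' (one_mem _) (by simp),
      finsum_mem_eq_finite_toFinset_sum _ (Set.toFinite B)] at h1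
    rw [← h1]
    refine Finset.sum_congr (by ext; simp) fun χ _ => rfl
  have hp1 : ¬ p ∣ orderOf (1 : T) := by
    rw [orderOf_one]
    exact fun h1 => hp.out.one_lt.ne' (Nat.dvd_one.1 h1)
  have hθ0 : θ 1 ≠ 0 := isIrr_apply_one_ne_zero h.irr
  have hprop : ∀ χ ∈ B, ∀ t : T, ¬ p ∣ orderOf t → θ 1 * (χ : G → ℂ) (u * t) = θ t * (χ : G → ℂ) u := by
    intro χ hχ t ht
    have h1 := eq_of_gram (Finset.univ.filter (fun χ : IrrCharacter G => χ ∈ B))
      (fun χ => (χ : G → ℂ) (u * t)) (fun χ => (χ : G → ℂ) (u * ((1 : T) : G)))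
      (θ t) (θ 1) p (hsum t t ht ht) (hsum t 1 ht hp1) (hsum 1 t hp1 ht)
      (hsum 1 1 hp1 hp1) χ (by simp [hχ])
    simpa using h1
  -- the integers
  have hint : ∀ χ : IrrCharacter G, ∃ a : ℤ, classInner (fun t : T => (χ : G → ℂ) (u * t)) θ = a :=
    fun χ => exists_int h (isIrr_isCharacter χ.2)
  choose a ha using hint
  have hau : ∀ χ ∈ B, (χ : G → ℂ) u = a χ * θ 1 := by
    intro χ hχ
    have h1 : ∀ t : T, (χ : G → ℂ) (u * t) * conj (θ t) =
        (χ : G → ℂ) u / θ 1 * (θ t * conj (θ t)) := by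
      intro t
      by_cases ht : p ∣ orderOf t
      · rw [h.zero hM ht]
        simp
      · have h2 := hprop χ hχ t ht
        field_simp
        linear_combination (conj (θ t)) * h2
    have h2 := ha χ
    rw [Characters.Core.classInner_def, Finset.sum_congr rfl fun t _ => h1 t, ← Finset.mul_sum] at h2
    have h3 := classInner_irr_self h.irr
    rw [Characters.Core.classInner_def] at h3
    rw [← h2]
    have h4 : (Nat.card T : ℂ) ≠ 0 := by exact_mod_cast Nat.card_pos.ne'
    field_simp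
    field_simp at h3
    rw [h3]
  have hval : ∀ χ ∈ B, ∀ t : T, ¬ p ∣ orderOf t → (χ : G → ℂ) (u * t) = a χ * θ t := by
    intro χ hχ t ht
    have h1 := hprop χ hχ t ht
    rw [hau χ hχ] at h1
    apply mul_left_cancel₀ hθ0
    rw [h1]
    ring
  have hcθ : conj (θ 1) = θ 1 := by
    have := irr_one_eq_charDegree h.irr
    rw [this, Complex.conj_natCast]
  have hsq : ∑ χ : IrrCharacter G with χ ∈ B, a χ ^ 2 = p := by
    have h1 := hsum 1 1 hp1 hp1
    have h2 : ∑ χ : IrrCharacter G with χ ∈ B,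
        (χ : G → ℂ) (u * ((1 : T) : G)) * conj ((χ : G → ℂ) (u * ((1 : T) : G))) =
        ((∑ χ : IrrCharacter G with χ ∈ B, a χ ^ 2 : ℤ) : ℂ) * (θ 1 * θ 1) := by
      rw [Int.cast_sum, Finset.sum_mul]
      refine Finset.sum_congr rfl fun χ hχ => ?_
      rw [Subgroup.coe_one, mul_one, hau χ (Finset.mem_filter.1 hχ).2, map_mul, hcθ, map_intCast, Int.cast_pow]
      ring
    rw [h2, hcθ] at h1
    have h3 := mul_right_cancel₀ (mul_ne_zero hθ0 hθ0) h1
    exact_mod_cast h3
  have htot : ∑ χ : IrrCharacter G, a χ ^ 2 = p := by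
    have h1 := total hM h
    have h2 : ∑ χ : IrrCharacter G, classInner (fun t : T => (χ : G → ℂ) (u * t)) θ *
        conj (classInner (fun t : T => (χ : G → ℂ) (u * t)) θ) =
        ((∑ χ : IrrCharacter G, a χ ^ 2 : ℤ) : ℂ) := by
      rw [Int.cast_sum]
      refine Finset.sum_congr rfl fun χ _ => ?_
      rw [ha, map_intCast, Int.cast_pow]
      ring
    rw [h2] at h1
    exact_mod_cast h1
  have hout : ∀ χ ∉ B, a χ = 0 := by
    intro χ hχ
    have h1 : ∑ χ : IrrCharacter G with ¬ χ ∈ B, a χ ^ 2 = 0 := by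
      have h2 := Finset.sum_filter_add_sum_filter_not Finset.univ (fun χ : IrrCharacter G => χ ∈ B)
        (fun χ => a χ ^ 2)
      rw [hsq, htot] at h2
      linarith
    have h2 := (Finset.sum_eq_zero_iff_of_nonneg (fun χ _ => sq_nonneg (a χ))).1 h1 χ (by simp [hχ])
    exact pow_eq_zero_iff (two_ne_zero) |>.1 h2
  -- central characters
  have hcu : ∀ χ ∈ B, MemLocalIdeal M ((p : ℂ) - 1 - centralChar (χ : G → ℂ) u) := by
    intro χ hχ
    have h1 := hind.2.2 θ' (mem_blockOf_self θ') χ hχ u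
    rwa [induced_u hM h θ' hθ'] at h1
  have hne : ∀ χ ∈ B, a χ ≠ 0 := by
    intro χ hχ h0
    have h1 := hcu χ hχ
    have h2 : centralChar (χ : G → ℂ) u = 0 := by
      unfold centralChar
      rw [hau χ hχ, h0]
      simp
    rw [h2, sub_zero] at h1
    have h3 : ((p : ℂ) - 1) = (((p : ℤ) - 1 : ℤ) : ℂ) := by push_cast; ring
    rw [h3, memLocalIdeal_intCast_iff hM] at h1
    have h4 : (p : ℤ) ∣ 1 := by
      have h5 := dvd_sub (dvd_refl (p : ℤ)) h1
      rwa [sub_sub_cancel] at h5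
    have h5 : p ∣ 1 := by exact_mod_cast h4
    exact hp.out.one_lt.ne' (Nat.dvd_one.1 h5)
  have hone : ∀ χ ∈ B, a χ = 1 ∨ a χ = -1 := by
    intro χ hχ
    have hge : ∀ ψ ∈ Finset.univ.filter (fun χ : IrrCharacter G => χ ∈ B), (1 : ℤ) ≤ a ψ ^ 2 := by
      intro ψ hψ
      have h1 := hne ψ (Finset.mem_filter.1 hψ).2
      have h2 : 0 < a ψ ^ 2 := by positivity
      omega
    have hcard : (∑ χ : IrrCharacter G with χ ∈ B, (1 : ℤ)) = p := by
      rw [Finset.sum_const, nsmul_eq_mul, mul_one, ← hcardB, Nat.card_eq_fintype_card, Fintype.card_subtype]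
    have h1 : ∀ ψ ∈ Finset.univ.filter (fun χ : IrrCharacter G => χ ∈ B), (1 : ℤ) = a ψ ^ 2 := by
      apply (Finset.sum_eq_sum_iff_of_le hge).1
      rw [hcard, hsq]
    have h2 := h1 χ (by simp [hχ])
    have h3 : (a χ - 1) * (a χ + 1) = 0 := by nlinarith
    rcases mul_eq_zero.1 h3 with h4 | h4
    · left; omega
    · right; omega
  refine ⟨B, θ', a, hθ', hBb, hdef, hind, hcardB, hone, hout, ha, hval, ?_, ?_, hcu, ?_⟩
  · intro x hx
    have h2 := Cfsg.Agent.S0907.result p M hM B hBb x u hx (by rw [h.ord])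
    rw [finsum_mem_eq_finite_toFinset_sum _ (Set.toFinite B)] at h2 ⊢
    have h3 : ∑ χ ∈ (Set.toFinite B).toFinset, (χ : G → ℂ) x * conj ((χ : G → ℂ) u) =
        (∑ χ ∈ (Set.toFinite B).toFinset, (a χ : ℂ) * (χ : G → ℂ) x) * θ 1 := by
      rw [Finset.sum_mul]
      refine Finset.sum_congr rfl fun χ hχ => ?_
      rw [hau χ (by simpa using hχ), map_mul, hcθ, map_intCast]
      ring
    rw [h3] at h2
    exact (mul_eq_zero.1 h2).resolve_right hθ0
  · intro χ hχ g hg
    have h1 := hind.2.2 θ' (mem_blockOf_self θ') χ hχ g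
    rwa [induced_reg hM h θ' hθ' hg] at h1
  · intro χ hχ
    have h1 := Cfsg.Agent.Blocks.Central.isIntegral_centralChar χ.2 u
    have h2 : centralChar (χ : G → ℂ) u =
        ((C.index * charDegree θ : ℕ) : ℂ) * (a χ : ℤ) / ((charDegree (χ : G → ℂ) : ℕ) : ℂ) := by
      unfold centralChar
      rw [hau χ hχ, irr_one_eq_charDegree h.irr, irr_one_eq_charDegree χ.2, ← h.cent]
      push_cast
      ring
    rw [h2] at h1
    have h3 := dvd_of_isIntegral (hone χ hχ) (charDegree_pos χ.2).ne' h1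
    rw [← C.card_mul_index, h.card, mul_assoc (p * Nat.card T)]
    exact mul_dvd_mul_left _ h3

/-- A character whose inner product at `u` with `θ` is positive has a constituent in the block with sign `1`. -/
theorem exists_pos {θ : T → ℂ} [Fintype G] [Fintype T] {a : IrrCharacter G → ℤ} {B : Set (IrrCharacter G)}
    (hone : ∀ χ ∈ B, a χ = 1 ∨ a χ = -1) (hout : ∀ χ ∉ B, a χ = 0)
    (ha : ∀ χ : IrrCharacter G, classInner (fun t : T => (χ : G → ℂ) (u * t)) θ = a χ)
    {Φ : G → ℂ} (hΦ : IsCharacter G Φ) {m : ℤ} (hm : classInner (fun t : T => Φ (u * t)) θ = m) (hm0 : 0 < m) :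
    ∃ χ : IrrCharacter G, χ ∈ B ∧ a χ = 1 ∧ classInner Φ (χ : G → ℂ) ≠ 0 := by
  classical
  have hfin : Finite (IrrCharacter G) := finite_irr
  have hft := Fintype.ofFinite (IrrCharacter G)
  obtain ⟨c, hc⟩ := exists_nat_comb hΦ
  have h1 : classInner (fun t : T => Φ (u * t)) θ = ∑ χ : IrrCharacter G, (c χ : ℂ) * a χ := by
    rw [hc, Characters.Core.classInner_def]
    simp only [Finset.sum_apply, Pi.smul_apply, nsmul_eq_mul, Finset.sum_mul]
    rw [Finset.sum_comm, Finset.mul_sum]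
    refine Finset.sum_congr rfl fun χ _ => ?_
    rw [← ha χ, Characters.Core.classInner_def, Finset.mul_sum, Finset.mul_sum, Finset.mul_sum]
    refine Finset.sum_congr rfl fun t _ => ?_
    have h3 : ((c χ : G → ℂ) * (χ : G → ℂ)) (u * (t : G)) = (c χ : ℂ) * (χ : G → ℂ) (u * t) := rfl
    rw [h3]
    ring
  rw [hm] at h1
  have h2 : m = ∑ χ : IrrCharacter G, (c χ : ℤ) * a χ := by exact_mod_cast h1
  rw [h2] at hm0
  obtain ⟨χ, -, hχ⟩ := Finset.exists_lt_of_sum_lt (s := Finset.univ) (f := fun _ : IrrCharacter G => (0 : ℤ))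
    (g := fun χ : IrrCharacter G => (c χ : ℤ) * a χ) (by simpa using hm0)
  have hχ : 0 < (c χ : ℤ) * a χ := hχ
  have hB : χ ∈ B := by
    by_contra h3
    rw [hout χ h3, mul_zero] at hχ
    exact lt_irrefl _ hχ
  have hc0 : c χ ≠ 0 := by
    intro h3
    rw [h3, Nat.cast_zero, zero_mul] at hχ
    exact lt_irrefl _ hχ
  refine ⟨χ, hB, ?_, ?_⟩
  · rcases hone χ hB with h3 | h3
    · exact h3
    · exfalso
      rw [h3] at hχ
      have : (0 : ℤ) ≤ c χ := by positivity
      linarith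
  · rw [hc, classInner_sum_nsmul_irr]
    exact_mod_cast hc0

end Setup

end Cfsg.Agent.H591.M23.Blk
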